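import Groth.Agent.Lib.GrFlat.Pieces
import Groth.Agent.Lib.FlatSyz.ProjDim

/-!
Stratification by generic flatness of the graded pieces of an adic filtration.
-/

set_option autoImplicit false
set_option linter.style.haveILetI false

universe u

open TensorProduct LinearMap

namespace Groth.Agent.NormStrat5

open GrFlat FlatH4

variable {R : Type u} [CommRing R]

theorem flat_of_modFree {p : Ideal R} {f : R} {M : Type u} [AddCommGroup M] [Module R M] (h : ModFree p f M)
    (C : Type u) [CommRing C] [Algebra R C] (hu : IsUnit (algebraMap R C f))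
    (hp : ∀ a ∈ p, algebraMap R C a = 0) : Module.Flat C (C ⊗[R] M) := by
  refine Module.Flat.iff_rTensor_injective'.2 fun I => ?_
  rw [injective_iff_map_eq_zero]
  intro y hy
  let e := AlgebraTensorModule.cancelBaseChange R C C I M
  let e' := AlgebraTensorModule.cancelBaseChange R C C C M
  have key : ∀ y, (I.subtype.restrictScalars R).rTensor M (e y) = e' (I.subtype.rTensor (C ⊗[R] M) y) := by
    intro y
    induction y using TensorProduct.induction_on with
    | zero => simp
    | tmul a z =>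
      induction z using TensorProduct.induction_on with
      | zero => simp
      | tmul c m => simp [e, e']
      | add a b ha hb => simp only [tmul_add, map_add, ha, hb]
    | add a b ha hb => simp only [map_add, ha, hb]
  have hI : Module.IsTorsionBySet R I (p : Set R) := fun x a => Subtype.ext <| by
    show (a : R) • (x : C) = 0
    rw [Algebra.smul_def, hp a a.2, zero_mul]
  have hC : Module.IsTorsionBySet R C (p : Set R) := fun x a => by
    show (a : R) • x = 0
    rw [Algebra.smul_def, hp a a.2, zero_mul]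
  obtain ⟨k, hk⟩ := h hI hC (I.subtype.restrictScalars R) Subtype.val_injective (e y)
    (by rw [key, hy, map_zero])
  rw [← algebraMap_smul C, map_pow, ← map_smul, e.map_eq_zero_iff] at hk
  exact (hu.pow k).smul_eq_zero.1 hk

variable {B : Type u} [CommRing B] [Algebra R B] (J : Ideal B)
  (M : Type u) [AddCommGroup M] [Module R M] [Module B M] [IsScalarTower R B M]
  (C : Type u) [CommRing C] [Algebra R C]

/-- The filtration after base change. -/
noncomputable abbrev W (k : ℕ) : Submodule C (C ⊗[R] M) :=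
  LinearMap.range (LinearMap.baseChange C ((J ^ k • (⊤ : Submodule B M)).restrictScalars R).subtype)

noncomputable def qtEquiv (k : ℕ) : ((C ⊗[R] M) ⧸ W J M C k) ≃ₗ[C] C ⊗[R] Qt J M k :=
  let X := (J ^ k • (⊤ : Submodule B M))
  let π : M →ₗ[R] Qt J M k := X.mkQ.restrictScalars R
  have hex : Function.Exact ((X.restrictScalars R).subtype.baseChange C) (π.baseChange C) :=
    _root_.lTensor_exact C (f := (X.restrictScalars R).subtype) (g := π)
      (fun z => ⟨fun hz => ⟨⟨z, (Submodule.Quotient.mk_eq_zero X).1 hz⟩, rfl⟩,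
        fun ⟨w, hw⟩ => hw ▸ (Submodule.Quotient.mk_eq_zero X).2 w.2⟩) (Submodule.mkQ_surjective X)
  (Submodule.quotEquivOfEq _ _ (LinearMap.exact_iff.1 hex).symm).trans
    ((π.baseChange C).quotKerEquivOfSurjective
      (LinearMap.lTensor_surjective (g := π) C (Submodule.mkQ_surjective X)))

theorem W_le (k : ℕ) : W (R := R) J M C (k + 1) ≤ W J M C k := by
  have h : ((J ^ (k + 1) • (⊤ : Submodule B M)).restrictScalars R) ≤ (J ^ k • (⊤ : Submodule B M)).restrictScalars R :=
    fun z hz => pow_succ_smul_le J M k hz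
  rintro _ ⟨z, rfl⟩
  refine ⟨(Submodule.inclusion h).baseChange C z, ?_⟩
  rw [← LinearMap.comp_apply, ← LinearMap.baseChange_comp]
  rfl

theorem flat_map {f : R} {p : Ideal R} (h : ∀ n, ModFree p f (Qt J M n))
    (hu : IsUnit (algebraMap R C f)) (hp : ∀ a ∈ p, algebraMap R C a = 0) (n : ℕ) :
    Module.Flat C ↥(Submodule.map (W (R := R) J M C (n + 1)).mkQ (W (R := R) J M C n)) := by
  have hfl : ∀ k, Module.Flat C ((C ⊗[R] M) ⧸ W J M C k) := fun k => by
    haveI := flat_of_modFree (h k) C hu hp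
    exact Module.Flat.of_linearEquiv (qtEquiv J M C k)
  haveI := hfl n
  haveI := hfl (n + 1)
  refine FlatSyz.flat_of_exact (Submodule.map (W J M C (n + 1)).mkQ (W J M C n)).subtype Subtype.val_injective
    (Submodule.factor (W_le (R := R) J M C n)) ?_ (Submodule.factor_surjective _)
  intro z
  obtain ⟨v, rfl⟩ := Submodule.Quotient.mk_surjective _ z
  show (Submodule.Quotient.mk v : (C ⊗[R] M) ⧸ W J M C n) = 0 ↔ _
  rw [Submodule.Quotient.mk_eq_zero]
  constructor
  · exact fun hv => ⟨⟨_, Submodule.mem_map_of_mem hv⟩, rfl⟩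
  · rintro ⟨⟨w, ⟨v', hv', rfl⟩⟩, hw⟩
    have h1 := W_le (R := R) J M C n ((Submodule.Quotient.eq _).1 hw)
    exact (sub_sub_cancel v' v) ▸ sub_mem hv' h1

/-- The data of a stratum of `V(I)`. -/
theorem exists_strata [IsNoetherianRing R] [Algebra.FiniteType R B] [Module.Finite B M] (I : Ideal R) :
    ∃ (m : ℕ) (P : Fin m → PrimeSpectrum R) (f : Fin m → R),
      (∀ i (C : Type u) [CommRing C] [Algebra R C], IsUnit (algebraMap R C (f i)) →
        (∀ a ∈ (P i).asIdeal, algebraMap R C a = 0) → ∀ n : ℕ,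
          Module.Flat C ↥(Submodule.map (W (R := R) J M C (n + 1)).mkQ (W (R := R) J M C n))) ∧
      (∀ i j, i ≠ j → Disjoint (PrimeSpectrum.zeroLocus ((P i).asIdeal : Set R) ∩ PrimeSpectrum.basicOpen (f i))
        (PrimeSpectrum.zeroLocus ((P j).asIdeal : Set R) ∩ PrimeSpectrum.basicOpen (f j))) ∧
      (⋃ i, PrimeSpectrum.zeroLocus ((P i).asIdeal : Set R) ∩ PrimeSpectrum.basicOpen (f i)) =
        PrimeSpectrum.zeroLocus (I : Set R) ∧
      ∀ i, ∃ U : Set (PrimeSpectrum R), IsOpen U ∧
        U ∩ (⋃ j, ⋃ (_ : i ≤ j), PrimeSpectrum.zeroLocus ((P j).asIdeal : Set R) ∩ PrimeSpectrum.basicOpen (f j)) =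
          PrimeSpectrum.zeroLocus ((P i).asIdeal : Set R) ∩ PrimeSpectrum.basicOpen (f i) := by
  haveI : IsNoetherianRing B := Algebra.FiniteType.isNoetherianRing R B
  induction I using WellFoundedGT.induction with
  | ind I ih =>
    rcases eq_or_ne I ⊤ with rfl | hI
    · refine ⟨0, Fin.elim0, Fin.elim0, fun i => i.elim0, fun i => i.elim0, ?_, fun i => i.elim0⟩
      simp
    obtain ⟨Q, hQ, hIQ⟩ := Ideal.exists_le_maximal I hI
    haveI := hQ.isPrime
    obtain ⟨P₀, hP₀, -⟩ := Ideal.exists_minimalPrimes_le hIQ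
    let P : PrimeSpectrum R := ⟨P₀, hP₀.isPrime⟩
    obtain ⟨f₀, hf₀, hfree⟩ := @exists_modFree_qt R B _ _ _ J M _ _ _ _ _ _ _ P.asIdeal P.isPrime
    obtain ⟨s, hs⟩ : ∃ s : Finset (Ideal R), ∀ L, L ∈ s ↔ L ∈ I.minimalPrimes ∧ L ≠ P₀ :=
      ⟨((Ideal.finite_minimalPrimes_of_isNoetherianRing R I).subset
        (Set.sep_subset _ fun L => L ≠ P₀)).toFinset, fun L => Set.Finite.mem_toFinset _⟩
    have hnot : ¬ s.inf id ≤ P₀ := fun h => by
      obtain ⟨L, hL, hLP⟩ := (hP₀.isPrime.inf_le').1 h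
      obtain ⟨hLm, hne⟩ := (hs L).1 hL
      exact hne (le_antisymm hLP (hP₀.2 ⟨hLm.isPrime, hLm.1.2⟩ hLP))
    obtain ⟨g, hg, hgP⟩ := SetLike.not_le_iff_exists.1 hnot
    have hfP : f₀ * g ∉ P₀ := fun h => (hP₀.isPrime.mem_or_mem h).elim hf₀ hgP
    have hset : PrimeSpectrum.zeroLocus (I : Set R) ∩ PrimeSpectrum.basicOpen (f₀ * g) =
        PrimeSpectrum.zeroLocus (P₀ : Set R) ∩ PrimeSpectrum.basicOpen (f₀ * g) := by
      ext q
      constructor
      · rintro ⟨hq, hqf⟩
        refine ⟨?_, hqf⟩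
        obtain ⟨L, hL, hLq⟩ := Ideal.exists_minimalPrimes_le (I := I) (J := q.asIdeal) hq
        by_cases h : L = P₀
        · exact h ▸ hLq
        · exact absurd (q.asIdeal.mul_mem_left f₀ (hLq ((Finset.inf_le ((hs L).2 ⟨hL, h⟩) : s.inf id ≤ L) hg))) hqf
      · rintro ⟨hq, hqf⟩
        exact ⟨le_trans hP₀.1.2 hq, hqf⟩
    have hlt : I < I ⊔ Ideal.span {f₀ * g} := lt_of_le_of_ne le_sup_left fun h =>
      hfP (hP₀.1.2 (h ▸ Ideal.mem_sup_right (Ideal.mem_span_singleton_self _)))
    obtain ⟨m, Ps, fs, h1, h2, h3, h4⟩ := ih _ hlt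
    have hrest : PrimeSpectrum.zeroLocus ((I ⊔ Ideal.span {f₀ * g} : Ideal R) : Set R) =
        PrimeSpectrum.zeroLocus (I : Set R) \ PrimeSpectrum.basicOpen (f₀ * g) := by
      rw [PrimeSpectrum.zeroLocus_sup, PrimeSpectrum.zeroLocus_span, PrimeSpectrum.basicOpen_eq_zeroLocus_compl,
        Set.sdiff_compl]
    refine ⟨m + 1, Fin.cons P Ps, Fin.cons (f₀ * g) fs, ?_, ?_, ?_, ?_⟩
    · intro i
      refine Fin.cases ?_ ?_ i
      · intro C _ _ hu hp n
        simp only [Fin.cons_zero] at hu hp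
        exact flat_map J M C hfree (by rw [map_mul] at hu; exact (IsUnit.mul_iff.1 hu).1) hp n
      · intro k C _ _ hu hp n
        simp only [Fin.cons_succ] at hu hp
        exact h1 k C hu hp n
    · have hd : ∀ k, Disjoint (PrimeSpectrum.zeroLocus (P.asIdeal : Set R) ∩ PrimeSpectrum.basicOpen (f₀ * g))
          (PrimeSpectrum.zeroLocus ((Ps k).asIdeal : Set R) ∩ PrimeSpectrum.basicOpen (fs k)) := fun k =>
        Set.disjoint_left.2 fun q hq hq' => ((h3.trans hrest).subset (Set.mem_iUnion.2 ⟨k, hq'⟩)).2 hq.2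
      intro i
      refine Fin.cases ?_ ?_ i
      · intro j
        refine Fin.cases (fun h => absurd rfl h) (fun k _ => ?_) j
        simpa using hd k
      · intro k j
        refine Fin.cases (fun _ => ?_) (fun l h => ?_) j
        · simpa using (hd k).symm
        · simpa using h2 k l (fun e => h (e ▸ rfl))
    · have hu : (⋃ i, PrimeSpectrum.zeroLocus (((Fin.cons P Ps : Fin (m + 1) → PrimeSpectrum R) i).asIdeal : Set R) ∩
          PrimeSpectrum.basicOpen ((Fin.cons (f₀ * g) fs : Fin (m + 1) → R) i)) =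
          (PrimeSpectrum.zeroLocus (P₀ : Set R) ∩ PrimeSpectrum.basicOpen (f₀ * g)) ∪
            ⋃ k, PrimeSpectrum.zeroLocus ((Ps k).asIdeal : Set R) ∩ PrimeSpectrum.basicOpen (fs k) := by
        ext q
        simp only [Set.mem_iUnion, Set.mem_union, Fin.exists_fin_succ, Fin.cons_zero, Fin.cons_succ, P]
      rw [hu, h3, hrest, ← hset, Set.inter_union_diff]
    · intro i
      refine Fin.cases ?_ ?_ i
      · refine ⟨PrimeSpectrum.basicOpen (f₀ * g), (PrimeSpectrum.basicOpen (f₀ * g)).2, ?_⟩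
        ext q
        constructor
        · rintro ⟨hq, hq'⟩
          obtain ⟨j, -, hj⟩ := Set.mem_iUnion₂.1 hq'
          revert hj
          refine Fin.cases (fun h => by simpa using h) (fun k h => ?_) j
          simp only [Fin.cons_succ] at h
          exact absurd hq ((h3.trans hrest).subset (Set.mem_iUnion.2 ⟨k, h⟩)).2
        · intro h
          exact ⟨h.2, Set.mem_iUnion₂.2 ⟨0, le_rfl, h⟩⟩
      · intro k
        obtain ⟨U, hU, hUeq⟩ := h4 k
        refine ⟨U, hU, ?_⟩
        simp only [Fin.cons_succ]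
        rw [← hUeq]
        congr 1
        ext q
        simp [Set.mem_iUnion, Fin.exists_fin_succ]

end Groth.Agent.NormStrat5
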